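/-
Zeros of characters on elements acting regularly on the linear characters of a normal coprime subgroup.
-/
import Cfsg.Agent.Lib.CharTheory.DegreeComplement
import Cfsg.Agent.Lib.CharTheory.Linear
import Cfsg.Agent.Lib.Coprime

set_option autoImplicit false
set_option linter.unusedSectionVars false

namespace Cfsg.Agent.OneVanishing

open CfsgLib CfsgLib.CharTheory
open scoped ComplexConjugate commutatorElement

universe u

variable {G : Type u} [Group G] [Finite G]

/-- `g` is a zero of an irreducible character. -/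
def Van (g : G) : Prop := ∃ χ : G → ℂ, Cfsg.IsIrrCharacter G χ ∧ χ g = 0

theorem van_of_quotient {N : Subgroup G} [N.Normal] {g : G} (h : Van (g : G ⧸ N)) : Van g := by
  obtain ⟨χ, hχ, h0⟩ := h
  exact ⟨fun x => χ (x : G ⧸ N), isIrrCharacter_comp_surjective hχ (QuotientGroup.mk' N)
    (QuotientGroup.mk'_surjective N), h0⟩

theorem finite_linear (F : Type u) [Group F] [Finite F] : Finite (F →* ℂˣ) := by
  have : NeZero (Nat.card F) := ⟨Nat.card_pos.ne'⟩
  refine Finite.of_injective (β := F → rootsOfUnity (Nat.card F) ℂ)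
    (fun φ f => ⟨φ f, by rw [mem_rootsOfUnity, ← map_pow, pow_card_eq_one', map_one]⟩) fun φ ψ h => ?_
  exact MonoidHom.ext fun f => congrArg Subtype.val (congrFun h f)

/-- A linear character separating an element from the derived subgroup. -/
theorem exists_linear_ne {F : Type u} [Group F] [Finite F] {f : F} (hf : f ∉ commutator F) :
    ∃ μ : F →* ℂˣ, μ f ≠ 1 := by
  have h1 : (Abelianization.of f) ≠ 1 := fun h => hf (by
    rw [← Abelianization.ker_of]; exact MonoidHom.mem_ker.2 h)
  have : Finite (Abelianization F) := Finite.of_surjective Abelianization.of QuotientGroup.mk_surjective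
  obtain ⟨φ, hφ⟩ := CommGroup.exists_apply_ne_one_of_hasEnoughRootsOfUnity (Abelianization F) ℂ h1
  exact ⟨φ.comp Abelianization.of, hφ⟩

variable (F : Subgroup G) [F.Normal]

/-- The linear character conjugated by `g`. -/
def tw (g : G) (μ : F →* ℂˣ) : F →* ℂˣ := μ.comp (MulAut.conjNormal g).toMonoidHom

variable {F}

theorem tw_apply (g : G) (μ : F →* ℂˣ) (f : F) : tw F g μ f = μ (MulAut.conjNormal g f) := rfl

theorem tw_mul (g h : G) (μ : F →* ℂˣ) : tw F (g * h) μ = tw F h (tw F g μ) := by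
  ext f; simp [tw_apply, map_mul, MulAut.mul_apply]

theorem tw_one (μ : F →* ℂˣ) : tw F 1 μ = μ := by
  ext f; simp [tw_apply]

theorem tw_mul' (g : G) (μ ν : F →* ℂˣ) : tw F g (μ * ν) = tw F g μ * tw F g ν := rfl

theorem tw_inv' (g : G) (μ : F →* ℂˣ) : tw F g μ⁻¹ = (tw F g μ)⁻¹ := rfl

theorem tw_self {g : G} (hg : g ∈ F) (μ : F →* ℂˣ) : tw F g μ = μ := by
  ext f
  have : MulAut.conjNormal g f = ⟨g, hg⟩ * f * ⟨g, hg⟩⁻¹ := Subtype.ext (MulAut.conjNormal_apply _ _)
  rw [tw_apply, this, map_mul, map_mul, map_inv, mul_comm (μ _) (μ f), mul_inv_cancel_right]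

theorem tw_pow_fix {b : G} {μ ν : F →* ℂˣ} (h : tw F b μ = μ * ν) (hν : tw F b ν = ν) :
    ∀ i : ℕ, tw F (b ^ i) μ = μ * ν ^ i := by
  intro i
  induction i with
  | zero =>
    ext f
    simp [tw_apply]
  | succ i ih =>
    have hνi : tw F b (ν ^ i) = ν ^ i := by
      ext f
      simp only [tw_apply, MonoidHom.pow_apply]
      rw [show ν (MulAut.conjNormal b f) = ν f from DFunLike.congr_fun hν f]
    rw [pow_succ, tw_mul, ih, tw_mul', h, hνi]
    ext f
    simp [pow_succ']
    ring

/-- An abelian group acting coprimely and faithfully has a regular orbit on linear characters. -/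
theorem exists_regular_linear {A : Subgroup G} (hA : ∀ a ∈ A, ∀ b ∈ A, a * b = b * a)
    (hcop : (Nat.card A).Coprime (Nat.card F))
    (hfaith : ∀ b ∈ A, (∀ μ : F →* ℂˣ, tw F b μ = μ) → b = 1) :
    ∃ l : F →* ℂˣ, ∀ a ∈ A, tw F a l = l → a = 1 := by
  classical
  have := finite_linear F
  let fixSet : (F →* ℂˣ) → Set G := fun l => {a | a ∈ A ∧ tw F a l = l}
  obtain ⟨l, -, hmin⟩ := Set.exists_min_image (Set.univ : Set (F →* ℂˣ)) (fun l => (fixSet l).ncard)
    (Set.toFinite _) ⟨1, trivial⟩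
  refine ⟨l, fun b hb hbl => ?_⟩
  by_contra hb1
  obtain ⟨m, hm⟩ : ∃ m : F →* ℂˣ, tw F b m ≠ m := by
    by_contra hcon
    push Not at hcon
    exact hb1 (hfaith b hb hcon)
  have hkill : ∀ u w : F →* ℂˣ, tw F b u = u * w → tw F b w = w → w = 1 := by
    intro u w h1 h2
    have h3 := tw_pow_fix h1 h2 (orderOf b)
    rw [pow_orderOf_eq_one, tw_one] at h3
    have h4 : ∀ f, w f ^ orderOf b = 1 := fun f => by
      have := DFunLike.congr_fun h3 f
      rw [MonoidHom.mul_apply, MonoidHom.pow_apply] at this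
      exact left_eq_mul.1 this
    refine MonoidHom.ext fun f => ?_
    have e1 : orderOf (w f) ∣ orderOf b := orderOf_dvd_of_pow_eq_one (h4 f)
    have e2 : orderOf (w f) ∣ Nat.card F := (orderOf_map_dvd w f).trans (orderOf_dvd_natCard f)
    have e3 : orderOf b ∣ Nat.card A := A.orderOf_dvd_natCard hb
    exact orderOf_eq_one_iff.1 (Nat.eq_one_of_dvd_coprimes hcop (e1.trans e3) e2)
  set v := tw F b m * m⁻¹ with hv
  have hv1 : v ≠ 1 := fun h => hm (mul_inv_eq_one.1 h)
  have hbv : tw F b v ≠ v := fun h => hv1 (hkill m v (by rw [hv]; ext f; simp [mul_comm]) h)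
  have hsub : fixSet (l * v) ⊆ fixSet l := by
    rintro a ⟨ha, hfix⟩
    refine ⟨ha, ?_⟩
    rw [tw_mul'] at hfix
    set w := tw F a l * l⁻¹ with hw
    have hcm : ∀ x : F →* ℂˣ, tw F b (tw F a x) = tw F a (tw F b x) := fun x => by
      rw [← tw_mul, ← tw_mul, hA a ha b hb]
    have hwfix : tw F b w = w := by rw [hw, tw_mul', tw_inv', hcm, hbl]
    set u' := m * (tw F a m)⁻¹ with hu'
    have hwu : w = v * (tw F a v)⁻¹ := by
      rw [hw]
      refine MonoidHom.ext fun f => ?_
      have hf := DFunLike.congr_fun hfix f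
      simp only [MonoidHom.mul_apply] at hf
      simp only [MonoidHom.mul_apply, MonoidHom.inv_apply]
      calc tw F a l f * (l f)⁻¹ = (tw F a l f * tw F a v f) * (tw F a v f)⁻¹ * (l f)⁻¹ := by
            rw [mul_inv_cancel_right]
        _ = v f * (tw F a v f)⁻¹ := by
            rw [hf, mul_comm (l f), mul_right_comm (v f * l f), mul_inv_cancel_right]
    have hu1 : tw F b u' = u' * w := by
      rw [hwu, hu', hv]
      simp only [tw_mul', tw_inv', hcm]
      ext f
      simp only [MonoidHom.mul_apply, MonoidHom.inv_apply, mul_inv_rev, inv_inv, Units.val_mul,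
        Units.val_inv_eq_inv_val]
      field_simp
    have h1 := hkill u' w hu1 hwfix
    exact mul_inv_eq_one.1 h1
  have hbnot : b ∉ fixSet (l * v) := fun h => by
    have := h.2
    rw [tw_mul', hbl] at this
    exact hbv (mul_left_cancel this)
  have hlt : (fixSet (l * v)).ncard < (fixSet l).ncard :=
    Set.ncard_lt_ncard (Set.ssubset_iff_subset_ne.2 ⟨hsub, fun h => hbnot (h ▸ ⟨hb, hbl⟩)⟩) (Set.toFinite _)
  exact absurd (hmin _ trivial) (not_le.2 hlt)

/-- An element that moves every member of the orbit of a linear character is a zero of some character. -/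
theorem van_of_orbit (l : F →* ℂˣ) {y : G} (hy : ∀ g : G, tw F (g * y * g⁻¹) l ≠ l) : Van y := by
  classical
  have := Fintype.ofFinite G
  have := Fintype.ofFinite F
  obtain ⟨χ, hχ, hne⟩ := exists_irr_above (N := F) (isIrrCharacter_linear l)
  refine ⟨χ, hχ, ?_⟩
  obtain ⟨d, ρ, hρ, rfl⟩ := hχ
  let e : (F →* ℂˣ) → ((Fin d → ℂ) →ₗ[ℂ] (Fin d → ℂ)) := fun m => ∑ f : F, ((m f)⁻¹ : ℂˣ).1 • ρ (f : G)
  set n : ℂ := (Fintype.card F : ℂ) with hn
  have hn0 : n ≠ 0 := by rw [hn]; exact Nat.cast_ne_zero.2 Fintype.card_ne_zero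
  have hshift : ∀ (m : F →* ℂˣ) (g : F), ρ (g : G) * e m = (m g : ℂ) • e m := by
    intro m g
    simp only [e, Finset.mul_sum, Finset.smul_sum]
    refine Fintype.sum_equiv (Equiv.mulLeft g) _ _ fun f => ?_
    rw [mul_smul_comm, ← map_mul, smul_smul]
    simp [mul_comm]
  have hee : ∀ m m' : F →* ℂˣ, e m * e m' = if m = m' then n • e m else 0 := by
    intro m m'
    have h1 : e m * e m' = (∑ f : F, ((m f)⁻¹ : ℂˣ).1 * (m' f : ℂ)) • e m' := by
      conv_lhs => simp only [e, Finset.sum_mul]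
      rw [Finset.sum_smul]
      refine Finset.sum_congr rfl fun f _ => ?_
      rw [smul_mul_assoc, show ρ (f : G) * ∑ x : F, ((m' x)⁻¹ : ℂˣ).1 • ρ (x : G) = (m' f : ℂ) • e m' from hshift m' f,
        smul_smul]
    split
    · next h =>
      subst h
      rw [h1]
      congr 1
      simp [hn]
    · next h =>
      rw [h1]
      obtain ⟨g, hg⟩ : ∃ g, m g ≠ m' g := by
        by_contra hc
        push Not at hc
        exact h (MonoidHom.ext hc)
      set q : F →* ℂˣ := m⁻¹ * m' with hq
      have hs : (∑ f : F, ((m f)⁻¹ : ℂˣ).1 * (m' f : ℂ)) = ∑ f : F, (q f : ℂ) :=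
        Finset.sum_congr rfl fun f _ => by simp [hq]
      have hz : (q g : ℂ) * ∑ f : F, (q f : ℂ) = ∑ f : F, (q f : ℂ) := by
        rw [Finset.mul_sum]
        exact Fintype.sum_equiv (Equiv.mulLeft g) _ _ fun f => by simp
      have hqg : (q g : ℂ) ≠ 1 := fun h1 => hg (by
        have h2 : q g = 1 := Units.ext h1
        exact inv_mul_eq_one.1 h2)
      have : ((q g : ℂ) - 1) * ∑ f : F, (q f : ℂ) = 0 := by rw [sub_mul, hz, one_mul, sub_self]
      rw [hs, (mul_eq_zero.1 this).resolve_left (sub_ne_zero.2 hqg), zero_smul]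
  have hconj : ∀ (g : G) (m : F →* ℂˣ), ρ g * e m = e (tw F g⁻¹ m) * ρ g := by
    intro g m
    simp only [e, Finset.mul_sum, Finset.sum_mul]
    refine Fintype.sum_equiv (MulAut.conjNormal g).toEquiv _ _ fun f => ?_
    rw [mul_smul_comm, smul_mul_assoc, ← map_mul, ← map_mul]
    congr 1
    · congr 2
      show m f = m (MulAut.conjNormal g⁻¹ (MulAut.conjNormal g f))
      rw [← MulAut.mul_apply, ← map_mul, inv_mul_cancel, map_one]; rfl
    · congr 1
      show g * f = ((MulAut.conjNormal g f : F) : G) * g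
      rw [MulAut.conjNormal_apply, inv_mul_cancel_right]
  have hel : e l ≠ 0 := by
    intro h
    apply hne
    have htr : LinearMap.trace ℂ _ (e l) = 0 := by rw [h, map_zero]
    simp only [e, map_sum, map_smul, smul_eq_mul] at htr
    show (Nat.card F : ℂ)⁻¹ * ∑ f : F, ρ.character (f : G) * conj ((l f : ℂ)) = 0
    rw [show (∑ f : F, ρ.character (f : G) * conj ((l f : ℂ))) =
      ∑ f : F, ((l f)⁻¹ : ℂˣ).1 * LinearMap.trace ℂ _ (ρ (f : G)) from Finset.sum_congr rfl fun f _ => ?_, htr,
      mul_zero]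
    rw [mul_comm]
    congr 1
    have hp : ((l f : ℂ)) ^ Nat.card F = 1 := by
      rw [← Units.val_pow_eq_pow_val, ← map_pow, pow_card_eq_one', map_one, Units.val_one]
    rw [Units.val_inv_eq_inv_val, Complex.inv_eq_conj (Complex.norm_eq_one_of_pow_eq_one hp Nat.card_pos.ne')]
  have := finite_linear F
  set O : Finset (F →* ℂˣ) := Finset.univ.image (fun g : G => tw F g l) with hO
  set E := ∑ m ∈ O, e m with hE
  have hlO : l ∈ O := Finset.mem_image.2 ⟨1, Finset.mem_univ _, tw_one l⟩
  have hmE : ∀ m ∈ O, e m * E = n • e m := by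
    intro m hm
    rw [hE, Finset.mul_sum, Finset.sum_eq_single m]
    · rw [hee, if_pos rfl]
    · intro m' _ hne'; rw [hee, if_neg (Ne.symm hne')]
    · exact fun h => absurd hm h
  have hE0 : E ≠ 0 := fun h => hel (by
    have := hmE l hlO
    rw [h, mul_zero] at this
    exact (smul_eq_zero.1 this.symm).resolve_left hn0)
  have hEcomm : ∀ g : G, ρ g * E = E * ρ g := by
    intro g
    rw [hE, Finset.mul_sum, Finset.sum_mul]
    refine Finset.sum_bij (fun m _ => tw F g⁻¹ m) ?_ ?_ ?_ fun m _ => hconj g m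
    · intro m hm
      obtain ⟨x, -, rfl⟩ := Finset.mem_image.1 hm
      exact Finset.mem_image.2 ⟨x * g⁻¹, Finset.mem_univ _, tw_mul _ _ _⟩
    · intro m₁ _ m₂ _ h
      have := congrArg (tw F g) h
      rwa [← tw_mul, ← tw_mul, inv_mul_cancel, tw_one, tw_one] at this
    · intro m hm
      obtain ⟨x, -, rfl⟩ := Finset.mem_image.1 hm
      refine ⟨tw F (x * g) l, Finset.mem_image.2 ⟨x * g, Finset.mem_univ _, rfl⟩, ?_⟩
      rw [← tw_mul, mul_inv_cancel_right]
  have hsurj : Function.Surjective E := by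
    let W : Subrepresentation ρ := ⟨LinearMap.range E, fun g v hv => by
      obtain ⟨x, rfl⟩ := hv
      exact ⟨ρ g x, (LinearMap.congr_fun (hEcomm g) x).symm⟩⟩
    have hs : IsSimpleOrder (Subrepresentation ρ) := hρ
    rcases eq_bot_or_eq_top W with h | h
    · exact absurd (LinearMap.range_eq_bot.1 (congrArg Subrepresentation.toSubmodule h)) hE0
    · exact LinearMap.range_eq_top.1 (congrArg Subrepresentation.toSubmodule h)
  have hEn : E = n • 1 := by
    refine LinearMap.ext fun v => ?_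
    obtain ⟨x, rfl⟩ := hsurj v
    have hEE : E * E = n • E := by
      conv_lhs => arg 1; rw [hE]
      rw [Finset.sum_mul, Finset.sum_congr rfl hmE, ← Finset.smul_sum]
    exact LinearMap.congr_fun hEE x
  show LinearMap.trace ℂ _ (ρ y) = 0
  have h1 : n * LinearMap.trace ℂ _ (ρ y) = ∑ m ∈ O, LinearMap.trace ℂ _ (e m * ρ y) := by
    rw [← map_sum, ← Finset.sum_mul, ← hE, hEn, smul_mul_assoc, one_mul, map_smul, smul_eq_mul]
  have h2 : ∀ m ∈ O, LinearMap.trace ℂ _ (e m * ρ y) = 0 := by
    intro m hm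
    have hy' : tw F y⁻¹ m ≠ m := by
      obtain ⟨x, -, rfl⟩ := Finset.mem_image.1 hm
      intro h
      apply hy x
      have h' := congrArg (tw F (y * x⁻¹)) h
      rw [← tw_mul, ← tw_mul, ← tw_mul, show x * (y⁻¹ * (y * x⁻¹)) = 1 by group, tw_one] at h'
      rw [mul_assoc, ← h']
    have h3 : n * LinearMap.trace ℂ _ (e m * ρ y) = 0 := by
      calc n * LinearMap.trace ℂ _ (e m * ρ y) = LinearMap.trace ℂ _ (e m * e m * ρ y) := by
            rw [hee, if_pos rfl, smul_mul_assoc, map_smul, smul_eq_mul]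
        _ = LinearMap.trace ℂ _ (e m * ρ y * e m) := by
            rw [mul_assoc, LinearMap.trace_mul_comm]
        _ = 0 := by
            rw [mul_assoc, hconj, ← mul_assoc, hee, if_neg (Ne.symm hy'), zero_mul, map_zero]
    exact (mul_eq_zero.1 h3).resolve_left hn0
  rw [Finset.sum_eq_zero h2] at h1
  exact (mul_eq_zero.1 h1).resolve_left hn0

/-- An element conjugate to all of its translates by a normal subgroup of prime order is a zero of some character. -/
theorem van_of_translates {p : ℕ} [Fact p.Prime] (Z : Subgroup G) [Z.Normal] (hZ : Nat.card Z = p) {y : G}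
    (hy : ∀ a ∈ Z, IsConj y (a * y)) : Van y := by
  classical
  have := Fintype.ofFinite G
  have := Fintype.ofFinite Z
  have hp : p.Prime := Fact.out
  obtain ⟨z, hz⟩ : ∃ z : Z, z ≠ 1 := by
    have : Nontrivial Z := Finite.one_lt_card_iff_nontrivial.1 (hZ ▸ hp.one_lt)
    exact exists_ne 1
  have hcyc : IsCyclic Z := isCyclic_of_prime_card hZ
  letI : CommGroup Z := IsCyclic.commGroup
  obtain ⟨φ, hφ⟩ := CommGroup.exists_apply_ne_one_of_hasEnoughRootsOfUnity Z ℂ hz
  obtain ⟨χ, hχ, hne⟩ := exists_irr_above (N := Z) (isIrrCharacter_linear φ)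
  refine ⟨χ, hχ, ?_⟩
  have hcl := isClassFunction_irr hχ
  obtain ⟨d, ρ, hρ, rfl⟩ := hχ
  set E := ∑ a : Z, ρ (a : G) with hE
  have hEa : ∀ a : Z, ρ (a : G) * E = E := fun a => by
    rw [hE, Finset.mul_sum]
    exact Fintype.sum_equiv (Equiv.mulLeft a) _ _ fun c => by rw [← map_mul]; rfl
  have hEg : ∀ g : G, ρ g * E = E * ρ g := fun g => by
    rw [hE, Finset.mul_sum, Finset.sum_mul]
    refine Fintype.sum_equiv (MulAut.conjNormal g).toEquiv _ _ fun c => ?_
    rw [← map_mul, ← map_mul]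
    congr 1
    show g * c = ((MulAut.conjNormal g c : Z) : G) * g
    rw [MulAut.conjNormal_apply, inv_mul_cancel_right]
  have hE0 : E = 0 := by
    let W : Subrepresentation ρ := ⟨LinearMap.range E, fun g v hv => by
      obtain ⟨x, rfl⟩ := hv
      exact ⟨ρ g x, (LinearMap.congr_fun (hEg g) x).symm⟩⟩
    have hs : IsSimpleOrder (Subrepresentation ρ) := hρ
    rcases eq_bot_or_eq_top W with h | h
    · exact LinearMap.range_eq_bot.1 (congrArg Subrepresentation.toSubmodule h)
    · exfalso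
      have hsur := LinearMap.range_eq_top.1 (congrArg Subrepresentation.toSubmodule h)
      have htriv : ∀ a : Z, ρ.character (a : G) = ρ.character 1 := fun a => by
        have : ρ (a : G) = 1 := LinearMap.ext fun v => by
          obtain ⟨x, rfl⟩ := hsur v
          exact LinearMap.congr_fun (hEa a) x
        show LinearMap.trace ℂ _ (ρ (a : G)) = LinearMap.trace ℂ _ (ρ 1)
        rw [this, show ρ (1 : G) = 1 from map_one ρ]
      apply hne
      show (Nat.card Z : ℂ)⁻¹ * ∑ a : Z, ρ.character (a : G) * conj (φ a : ℂ) = 0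
      simp only [htriv, ← Finset.mul_sum, ← map_sum]
      have hs0 : ∑ a : Z, (φ a : ℂ) = 0 := by
        have hzz : (φ z : ℂ) * ∑ a : Z, (φ a : ℂ) = ∑ a : Z, (φ a : ℂ) := by
          rw [Finset.mul_sum]
          exact Fintype.sum_equiv (Equiv.mulLeft z) _ _ fun f => by simp
        have : ((φ z : ℂ) - 1) * ∑ a : Z, (φ a : ℂ) = 0 := by rw [sub_mul, hzz, one_mul, sub_self]
        exact (mul_eq_zero.1 this).resolve_left (sub_ne_zero.2 fun h => hφ (Units.ext h))
      rw [hs0, map_zero, mul_zero, mul_zero]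
  have h1 : ∑ a : Z, ρ.character ((a : G) * y) = (Nat.card Z : ℂ) * ρ.character y := by
    rw [Finset.sum_congr rfl fun (a : Z) _ => show ρ.character ((a : G) * y) = ρ.character y from by
      obtain ⟨c, hc⟩ := isConj_iff.1 (hy a a.2)
      rw [← hc]; exact hcl _ _, Finset.sum_const, Finset.card_univ, nsmul_eq_mul, Nat.card_eq_fintype_card]
  have h2 : ∑ a : Z, ρ.character ((a : G) * y) = 0 := by
    show ∑ a : Z, LinearMap.trace ℂ _ (ρ ((a : G) * y)) = 0
    simp only [map_mul]
    rw [← map_sum, ← Finset.sum_mul, ← hE, hE0, zero_mul, map_zero]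
  rw [h1] at h2
  exact (mul_eq_zero.1 h2).resolve_left (by rw [hZ]; exact_mod_cast hp.ne_zero)

end Cfsg.Agent.OneVanishing
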