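/-
A solvable group with at most one vanishing class of p-singular elements.
-/
import Cfsg.Agent.Lib.OneVanishing.Basic
import Cfsg.Agent.Lib.Basic
import Cfsg.Agent.Lib.PSolvable
import Cfsg.Agent.Lib.ZJ.Complement
import Cfsg.Agent.Lib.Signalizer.Coprime

set_option autoImplicit false
set_option linter.unusedSectionVars false

namespace Cfsg.Agent.OneVanishing

open Cfsg CfsgLib
open scoped commutatorElement

universe u

variable {G : Type u} [Group G] [Finite G] {p : ℕ} [Fact p.Prime]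

/-- All vanishing elements of order divisible by `p` are conjugate. -/
def AtMostOne (p : ℕ) (G : Type u) [Group G] [Finite G] : Prop :=
  ∀ x y : G, p ∣ orderOf x → p ∣ orderOf y → Van x → Van y → IsConj x y

/-- No element of order divisible by `p` is vanishing. -/
def NoVan (p : ℕ) (G : Type u) [Group G] [Finite G] : Prop := ∀ x : G, p ∣ orderOf x → ¬ Van x

theorem dvd_orderOf_of_mk {N : Subgroup G} [N.Normal] {g : G} (h : p ∣ orderOf (g : G ⧸ N)) :
    p ∣ orderOf g :=
  h.trans (orderOf_map_dvd (QuotientGroup.mk' N) g)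

theorem AtMostOne.quotient (h : AtMostOne p G) (N : Subgroup G) [N.Normal] : AtMostOne p (G ⧸ N) := by
  intro x y hx hy vx vy
  obtain ⟨x, rfl⟩ := QuotientGroup.mk_surjective x
  obtain ⟨y, rfl⟩ := QuotientGroup.mk_surjective y
  exact (QuotientGroup.mk' N).map_isConj
    (h x y (dvd_orderOf_of_mk hx) (dvd_orderOf_of_mk hy) (van_of_quotient vx) (van_of_quotient vy))

theorem NoVan.quotient (h : NoVan p G) (N : Subgroup G) [N.Normal] : NoVan p (G ⧸ N) := by
  intro x hx vx
  obtain ⟨x, rfl⟩ := QuotientGroup.mk_surjective x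
  exact h x (dvd_orderOf_of_mk hx) (van_of_quotient vx)

theorem fitting_coprime (hO : pCore p G = ⊥) : ¬ p ∣ Nat.card (fittingSubgroup G) := by
  intro h
  refine not_dvd_card_pPrimeCore (G := G) (Fact.out : p.Prime) (h.trans (Subgroup.card_dvd_of_le ?_))
  rw [fittingSubgroup_eq_iSup_pCore]
  refine iSup_le fun q => ?_
  rcases eq_or_ne p (q : ℕ) with e | e
  · rw [← e, hO]; exact bot_le
  · exact pCore_le_pPrimeCore_of_ne (Fact.out : p.Prime) q.2 e

theorem fitting_nilpotent : Group.IsNilpotent (fittingSubgroup G) := by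
  rw [fittingSubgroup_eq_iSup_pCore]; exact isNilpotent_iSup_pCore

/-- An element acting coprimely and fixing every linear character of a nilpotent normal subgroup centralises it. -/
theorem centralizes_of_fix {F : Subgroup G} [F.Normal] (hF : Group.IsNilpotent F) {b : G}
    (hcop : (orderOf b).Coprime (Nat.card F)) (h : ∀ μ : F →* ℂˣ, tw F b μ = μ) :
    b ∈ Subgroup.centralizer (F : Set G) := by
  classical
  set B := Subgroup.zpowers b with hB
  have hBN : B ≤ Subgroup.normalizer (F : Set G) := fun x _ => Subgroup.mem_normalizer_iff.2 fun y =>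
    ⟨fun hy => ‹F.Normal›.conj_mem y hy x, fun hy => by
      simpa [mul_assoc] using ‹F.Normal›.conj_mem _ hy x⁻¹⟩
  have hcard : (Nat.card B).Coprime (Nat.card F) := by rw [hB, Nat.card_zpowers]; exact hcop
  have hsol : Group.IsSolvable B ∨ Group.IsSolvable F := Or.inr inferInstance
  set C := F ⊓ Subgroup.centralizer (B : Set G) with hC
  have hdec := coprime_commutator_sup hBN hcard hsol
  suffices hCF : C = F by
    rw [Subgroup.mem_centralizer_iff]
    intro f hf
    have h1 : f ∈ C := hCF ▸ hf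
    exact (Subgroup.mem_centralizer_iff.1 h1.2 b (Subgroup.mem_zpowers b)).symm
  by_contra hne
  have hlt : C.subgroupOf F ≠ ⊤ := fun h => hne (le_antisymm inf_le_left (Subgroup.subgroupOf_eq_top.1 h))
  obtain ⟨M, hM, hCM⟩ := (eq_top_or_exists_le_coatom (C.subgroupOf F)).resolve_left hlt
  haveI : Group.IsNilpotent F := hF
  haveI hMn : M.Normal := Subgroup.NormalizerCondition.normal_of_coatom _ Group.normalizerCondition_of_isNilpotent hM
  have hFM : commutator F ≤ M := by
    obtain ⟨x, hx⟩ : ∃ x, x ∉ M := by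
      by_contra hc
      push Not at hc
      exact hM.1 (eq_top_iff.2 fun x _ => hc x)
    have htop : M ⊔ Subgroup.zpowers x = ⊤ := hM.2 _ (lt_of_le_of_ne le_sup_left fun e =>
      hx (e ▸ Subgroup.mem_sup_right (Subgroup.mem_zpowers x)))
    rw [← Subgroup.Normal.quotient_commutative_iff_commutator_le]
    refine ⟨⟨fun a c => ?_⟩⟩
    have hall : ∀ q : F ⧸ M, q ∈ Subgroup.zpowers (x : F ⧸ M) := by
      intro q
      obtain ⟨g, rfl⟩ := QuotientGroup.mk_surjective q
      have hg : g ∈ ((M ⊔ Subgroup.zpowers x : Subgroup F) : Set F) := by rw [htop]; trivial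
      rw [Subgroup.normal_mul] at hg
      obtain ⟨m, hm, _, ⟨j, rfl⟩, rfl⟩ := hg
      refine ⟨j, ?_⟩
      show (x : F ⧸ M) ^ j = _
      rw [QuotientGroup.mk_mul, (QuotientGroup.eq_one_iff m).2 hm, one_mul, QuotientGroup.mk_zpow]
    obtain ⟨i, hi⟩ := hall a
    obtain ⟨j, hj⟩ := hall c
    rw [← hi, ← hj]
    exact ((Commute.refl _).zpow_zpow i j).eq
  have hK : ⁅F, B⁆ ≤ M.map F.subtype := by
    rw [Subgroup.commutator_le]
    intro f hf c hc
    obtain ⟨j, rfl⟩ := hc
    have hmem : (⟨f, hf⟩ : F) * (MulAut.conjNormal (b ^ j) (⟨f, hf⟩ : F))⁻¹ ∈ commutator F := by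
      by_contra hn
      obtain ⟨μ, hμ⟩ := exists_linear_ne hn
      apply hμ
      have hfix : ∀ i : ℤ, tw F (b ^ i) μ = μ := by
        intro i
        induction i using Int.induction_on with
        | zero => rw [zpow_zero, tw_one]
        | succ n ih => rw [zpow_add_one, tw_mul, ih, h]
        | pred n ih =>
          rw [zpow_sub_one, tw_mul, ih]
          conv_lhs => rw [← h μ]
          rw [← tw_mul, mul_inv_cancel, tw_one]
      rw [map_mul, map_inv, ← tw_apply, hfix, mul_inv_cancel]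
    refine ⟨_, hFM hmem, ?_⟩
    show f * ((MulAut.conjNormal (b ^ j) (⟨f, hf⟩ : F) : F) : G)⁻¹ = ⁅f, b ^ j⁆
    rw [MulAut.conjNormal_apply, commutatorElement_def]
    group
  apply hM.1
  rw [eq_top_iff]
  intro f _
  have hf : (f : G) ∈ M.map F.subtype :=
    (hdec.ge.trans (sup_le hK (fun c hc => ⟨⟨c, hc.1⟩, hCM hc, rfl⟩)) : F ≤ M.map F.subtype) f.2
  obtain ⟨m, hm, he⟩ := hf
  rwa [← Subtype.ext (show (m : G) = f from he)]

/-- Elements over an abelian normal `p`-subgroup of `G/F(G)` are vanishing. -/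
theorem quot_vanish [Group.IsSolvable G] (hO : pCore p G = ⊥) (A' : Subgroup (G ⧸ fittingSubgroup G))
    [A'.Normal] (hA'p : IsPGroup p A') (hab : ∀ a ∈ A', ∀ c ∈ A', a * c = c * a) :
    ∃ A : Subgroup G, (∀ a ∈ A, ∀ c ∈ A, a * c = c * a) ∧ IsPGroup p A ∧
      (∀ a ∈ A, (a : G ⧸ fittingSubgroup G) = 1 → a = 1) ∧
      A.map (QuotientGroup.mk' (fittingSubgroup G)) = A' ∧
      ∀ g : G, (g : G ⧸ fittingSubgroup G) ∈ A' → (g : G ⧸ fittingSubgroup G) ≠ 1 → Van g := by
  classical
  set F := fittingSubgroup G with hF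
  have hFp : ¬ p ∣ Nat.card F := fitting_coprime hO
  set M := A'.comap (QuotientGroup.mk' F) with hM
  obtain ⟨P⟩ : Nonempty (Sylow p M) := inferInstance
  let f : M →* A' := ((QuotientGroup.mk' F).comp M.subtype).codRestrict A' fun m => m.2
  have hfs : Function.Surjective f := by
    rintro ⟨q, hq⟩
    obtain ⟨g, rfl⟩ := QuotientGroup.mk_surjective q
    exact ⟨⟨g, hq⟩, rfl⟩
  have hPimg : (P : Subgroup M).map f = ⊤ := by
    have h1 : ((P.mapSurjective hfs : Sylow p A') : Subgroup A') = ⊤ :=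
      ((P.mapSurjective hfs).3 (hA'p.to_subgroup ⊤) le_top).symm
    exact h1
  set A := (P : Subgroup M).map M.subtype with hA
  have hAp : IsPGroup p A := P.isPGroup'.map _
  have hone : ∀ a ∈ A, (a : G ⧸ F) = 1 → a = 1 := by
    intro a ha h1
    have h2 : a ∈ F := (QuotientGroup.eq_one_iff a).1 h1
    obtain ⟨k, hk⟩ := hAp ⟨a, ha⟩
    have hk' : a ^ (p ^ k) = 1 := congrArg Subtype.val hk
    exact orderOf_eq_one_iff.1 (Nat.eq_one_of_dvd_coprimes
      (((Fact.out : p.Prime).coprime_iff_not_dvd.2 hFp).pow_left k)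
      (orderOf_dvd_of_pow_eq_one hk') (F.orderOf_dvd_natCard h2))
  have hAab : ∀ a ∈ A, ∀ c ∈ A, a * c = c * a := by
    intro a ha c hc
    have h1 := hone _ (A.mul_mem (A.mul_mem ha hc) (A.inv_mem (A.mul_mem hc ha))) (by
      obtain ⟨a', -, rfl⟩ := ha
      obtain ⟨c', -, rfl⟩ := hc
      have := hab _ a'.2 _ c'.2
      simp only [QuotientGroup.mk'_apply] at this
      simp only [Subgroup.coe_subtype, QuotientGroup.mk_mul, QuotientGroup.mk_inv, this, mul_inv_cancel])
    exact mul_inv_eq_one.1 h1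
  have hmap : A.map (QuotientGroup.mk' F) = A' := by
    refine le_antisymm ?_ fun q hq => ?_
    · rintro _ ⟨_, ⟨m, -, rfl⟩, rfl⟩; exact m.2
    · obtain ⟨m, hm, he⟩ : (⟨q, hq⟩ : A') ∈ (P : Subgroup M).map f := hPimg ▸ Subgroup.mem_top _
      exact ⟨m, ⟨m, hm, rfl⟩, congrArg Subtype.val he⟩
  refine ⟨A, hAab, hAp, hone, hmap, fun g hg hg1 => ?_⟩
  have hcop : (Nat.card A).Coprime (Nat.card F) := by
    obtain ⟨k, hk⟩ := hAp.exists_card_eq
    rw [hk]; exact ((Fact.out : p.Prime).coprime_iff_not_dvd.2 hFp).pow_left k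
  have hfaith : ∀ b ∈ A, (∀ μ : F →* ℂˣ, tw F b μ = μ) → b = 1 := by
    intro b hb hfix
    have h1 := centralizes_of_fix fitting_nilpotent (hcop.coprime_dvd_left (A.orderOf_dvd_natCard hb)) hfix
    exact hone b hb ((QuotientGroup.eq_one_iff b).2 (centralizer_fitting_le h1))
  obtain ⟨l, hl⟩ := exists_regular_linear hAab hcop hfaith
  refine van_of_orbit l fun x hfix => ?_
  have hmem : ((x * g * x⁻¹ : G) : G ⧸ F) ∈ A' := by
    rw [QuotientGroup.mk_mul, QuotientGroup.mk_mul, QuotientGroup.mk_inv]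
    exact ‹A'.Normal›.conj_mem _ hg _
  obtain ⟨a, ha, hae⟩ : ((x * g * x⁻¹ : G) : G ⧸ F) ∈ A.map (QuotientGroup.mk' F) := hmap ▸ hmem
  have hfa : x * g * x⁻¹ * a⁻¹ ∈ F := by
    rw [← QuotientGroup.eq_one_iff, QuotientGroup.mk_mul, QuotientGroup.mk_inv, ← hae]
    exact mul_inv_cancel _
  have h2 : tw F a l = l := by
    rw [show x * g * x⁻¹ = (x * g * x⁻¹ * a⁻¹) * a by group, tw_mul, tw_self hfa] at hfix
    exact hfix
  apply hg1
  have h3 := hl a ha h2
  rw [h3] at hae
  simp only [map_one, QuotientGroup.mk_mul, QuotientGroup.mk_inv] at hae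
  exact conj_eq_one_iff.1 hae.symm

theorem card_quotient_lt {N : Subgroup G} (hN : N ≠ ⊥) : Nat.card (G ⧸ N) < Nat.card G := by
  rw [Subgroup.card_eq_card_quotient_mul_card_subgroup N]
  exact lt_mul_of_one_lt_right Nat.card_pos ((Subgroup.one_lt_card_iff_ne_bot N).2 hN)

theorem fitting_ne_bot [Group.IsSolvable G] [Nontrivial G] : fittingSubgroup G ≠ ⊥ := by
  intro h
  have h1 := centralizer_fitting_le (G := G)
  rw [h] at h1
  obtain ⟨x, hx⟩ := exists_ne (1 : G)
  exact hx (Subgroup.mem_bot.1 (h1 (Subgroup.mem_centralizer_iff.2 fun y hy => by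
    rw [Subgroup.mem_bot.1 hy]; simp)))

theorem none (n : ℕ) : ∀ (G : Type u) [Group G] [Finite G], Group.IsSolvable G → Nat.card G = n →
    pCore p G = ⊥ → NoVan p G → ¬ p ∣ Nat.card G := by
  induction n using Nat.strong_induction_on with
  | _ n ih =>
  intro G _ _ hs hn hO hv hdvd
  have : Nontrivial G := Finite.one_lt_card_iff_nontrivial.1
    ((Fact.out : p.Prime).one_lt.trans_le (Nat.le_of_dvd Nat.card_pos hdvd))
  set F := fittingSubgroup G with hF
  have hFp : ¬ p ∣ Nat.card F := fitting_coprime hO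
  have hdH : p ∣ Nat.card (G ⧸ F) := by
    rw [Subgroup.card_eq_card_quotient_mul_card_subgroup F] at hdvd
    exact ((Fact.out : p.Prime).dvd_mul.1 hdvd).resolve_right hFp
  have hsH : Group.IsSolvable (G ⧸ F) := Group.isSolvable_of_surjective (QuotientGroup.mk'_surjective F)
  by_cases hX : pCore p (G ⧸ F) = ⊥
  · exact ih _ (hn ▸ card_quotient_lt fitting_ne_bot) _ hsH rfl hX (hv.quotient F) hdH
  set X := pCore p (G ⧸ F) with hXdef
  have hXp : IsPGroup p X := isPGroup_pCore p
  have hXn : X.Normal := inferInstance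
  haveI : Nontrivial X := (Subgroup.nontrivial_iff_ne_bot X).2 hX
  obtain ⟨z, hz⟩ : ∃ z : Subgroup.center X, z ≠ 1 := by
    have := hXp.center_nontrivial
    exact exists_ne 1
  set A' := (Subgroup.center X).map X.subtype with hA'
  haveI : A'.Normal := ConjAct.normal_of_characteristic_of_normal
  obtain ⟨A, -, -, -, -, hvan⟩ := quot_vanish hO A' (hXp.to_le (Subgroup.map_subtype_le _)) (by
    rintro _ ⟨a, ha, rfl⟩ _ ⟨c, hc, rfl⟩
    exact congrArg Subtype.val (Subgroup.mem_center_iff.1 hc a))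
  obtain ⟨g, hg⟩ := QuotientGroup.mk_surjective ((z : X) : G ⧸ F)
  have hg1 : (g : G ⧸ F) ≠ 1 := fun h => hz (Subtype.ext (Subtype.ext (hg ▸ h)))
  have hpg : p ∣ orderOf g := by
    refine dvd_orderOf_of_mk (N := F) ?_
    obtain ⟨k, hk⟩ := hXp (z : X)
    obtain ⟨j, -, hj⟩ := (Nat.dvd_prime_pow (Fact.out : p.Prime)).1
      (orderOf_dvd_of_pow_eq_one (x := (g : G ⧸ F)) (n := p ^ k) (by rw [hg]; exact congrArg Subtype.val hk))
    rcases Nat.eq_zero_or_pos j with rfl | hj0
    · exact absurd (orderOf_eq_one_iff.1 (by simpa using hj)) hg1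
    · rw [hj]; exact dvd_pow_self p hj0.ne'
  exact hv g hpg (hvan g (hg ▸ ⟨(z : X), z.2, rfl⟩) hg1)

theorem one (n : ℕ) : ∀ (G : Type u) [Group G] [Finite G], Group.IsSolvable G → Nat.card G = n →
    pCore p G = ⊥ → AtMostOne p G → ∀ k, p ^ k ∣ Nat.card G → p ^ k ∣ p := by
  induction n using Nat.strong_induction_on with
  | _ n ih =>
  intro G _ _ hs hn hO hv k hk
  classical
  have hp : p.Prime := Fact.out
  rcases subsingleton_or_nontrivial G with hsub | hnt
  · rw [Nat.card_of_subsingleton (1 : G)] at hk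
    exact hk.trans (one_dvd _)
  set F := fittingSubgroup G with hF
  have hFp : ¬ p ∣ Nat.card F := fitting_coprime hO
  have hkH : p ^ k ∣ Nat.card (G ⧸ F) := by
    rw [Subgroup.card_eq_card_quotient_mul_card_subgroup F] at hk
    exact (Nat.Coprime.dvd_mul_right (((Fact.out : p.Prime).coprime_iff_not_dvd.2 hFp).pow_left k)).1 hk
  have hsH : Group.IsSolvable (G ⧸ F) := Group.isSolvable_of_surjective (QuotientGroup.mk'_surjective F)
  by_cases hX : pCore p (G ⧸ F) = ⊥
  · exact ih _ (hn ▸ card_quotient_lt fitting_ne_bot) _ hsH rfl hX (hv.quotient F) k hkH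
  set X := pCore p (G ⧸ F) with hXdef
  have hXp : IsPGroup p X := isPGroup_pCore p
  have hXn : X.Normal := inferInstance
  haveI : Nontrivial X := (Subgroup.nontrivial_iff_ne_bot X).2 hX
  set Z := (Subgroup.center X).map X.subtype with hZdef
  haveI hZn : Z.Normal := ConjAct.normal_of_characteristic_of_normal
  have hZX : Z ≤ X := Subgroup.map_subtype_le _
  obtain ⟨z, hzZ, hz1⟩ : ∃ z ∈ Z, z ≠ 1 := by
    obtain ⟨z, hz⟩ : ∃ z : Subgroup.center X, z ≠ 1 := by
      have := hXp.center_nontrivial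
      exact exists_ne 1
    exact ⟨((z : X) : G ⧸ F), ⟨(z : X), z.2, rfl⟩, fun h => hz (Subtype.ext (Subtype.ext h))⟩
  have hZab : ∀ a ∈ Z, ∀ c ∈ Z, a * c = c * a := by
    rintro _ ⟨a, ha, rfl⟩ _ ⟨c, hc, rfl⟩
    exact congrArg Subtype.val (Subgroup.mem_center_iff.1 hc a)
  have hsing : ∀ g : G, (g : G ⧸ F) ∈ X → (g : G ⧸ F) ≠ 1 → p ∣ orderOf g := by
    intro g hgX hg1
    refine dvd_orderOf_of_mk (N := F) ?_
    obtain ⟨m, hm⟩ := hXp ⟨_, hgX⟩
    obtain ⟨j, -, hj⟩ := (Nat.dvd_prime_pow hp).1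
      (orderOf_dvd_of_pow_eq_one (x := (g : G ⧸ F)) (n := p ^ m) (congrArg Subtype.val hm))
    rcases Nat.eq_zero_or_pos j with rfl | hj0
    · exact absurd (orderOf_eq_one_iff.1 (by simpa using hj)) hg1
    · rw [hj]; exact dvd_pow_self p hj0.ne'
  obtain ⟨A, hAab, hAp, hAone, hAmap, hvan⟩ := quot_vanish hO Z (hXp.to_le hZX) hZab
  obtain ⟨a₀, ha₀, ha₀z⟩ : z ∈ A.map (QuotientGroup.mk' F) := hAmap ▸ hzZ
  have hmemZ : ∀ a ∈ A, (a : G ⧸ F) ∈ Z := fun a ha => hAmap ▸ ⟨a, ha, rfl⟩
  have ha₀1 : a₀ ≠ 1 := fun h => hz1 (by rw [← ha₀z, h, map_one])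
  -- every vanishing element of order divisible by p lies over Z
  have hconj : ∀ g : G, p ∣ orderOf g → Van g → IsConj a₀ g := fun g h1 h2 =>
    hv a₀ g (hsing a₀ (hZX (hmemZ a₀ ha₀)) fun h => ha₀1 (hAone a₀ ha₀ h))
      h1 (hvan a₀ (hmemZ a₀ ha₀) fun h => ha₀1 (hAone a₀ ha₀ h)) h2
  have hinZ : ∀ g : G, p ∣ orderOf g → Van g → (g : G ⧸ F) ∈ Z := by
    intro g h1 h2
    obtain ⟨c, hc⟩ := isConj_iff.1 (hconj g h1 h2)
    rw [← hc, QuotientGroup.mk_mul, QuotientGroup.mk_mul, QuotientGroup.mk_inv]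
    exact hZn.conj_mem _ (hmemZ a₀ ha₀) _
  -- the elements over Z have one order and fix nothing in F
  have hord : ∀ g : G, (g : G ⧸ F) ∈ Z → (g : G ⧸ F) ≠ 1 → orderOf g = orderOf a₀ := by
    intro g hg hg1
    obtain ⟨c, hc⟩ := isConj_iff.1 (hconj g (hsing g (hZX hg) hg1) (hvan g hg hg1))
    rw [← hc]
    exact (MulEquiv.orderOf_eq (MulAut.conj c) a₀)
  have hfree : ∀ a ∈ A, a ≠ 1 → ∀ f ∈ F, a * f = f * a → f = 1 := by
    intro a ha ha1 f hf hcom
    have h1 := hord (f * a) (by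
      rw [QuotientGroup.mk_mul, (QuotientGroup.eq_one_iff f).2 hf, one_mul]; exact hmemZ a ha) (by
      rw [QuotientGroup.mk_mul, (QuotientGroup.eq_one_iff f).2 hf, one_mul]
      exact fun h => ha1 (hAone a ha h))
    have h2 := hord a (hmemZ a ha) fun h => ha1 (hAone a ha h)
    have hco : (orderOf f).Coprime (orderOf a) := by
      obtain ⟨m, hm⟩ := hAp.exists_card_eq
      exact ((((Fact.out : p.Prime).coprime_iff_not_dvd.2 hFp).pow_left m).symm.coprime_dvd_left
        (F.orderOf_dvd_natCard hf)).coprime_dvd_right (hm ▸ A.orderOf_dvd_natCard ha)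
    rw [(show Commute f a from hcom.symm).orderOf_mul_eq_mul_orderOf_of_coprime hco, ← h2] at h1
    exact orderOf_eq_one_iff.1 ((Nat.mul_eq_right (orderOf_pos a).ne').1 h1)
  have ho : orderOf a₀ = p := by
    have hd : p ∣ orderOf a₀ := hsing a₀ (hZX (hmemZ a₀ ha₀)) fun h => ha₀1 (hAone a₀ ha₀ h)
    set b := a₀ ^ (orderOf a₀ / p) with hb
    have hbo : orderOf b = p := orderOf_pow_orderOf_div (orderOf_pos a₀).ne' hd
    have hb1 : b ≠ 1 := fun h => hp.ne_one (by rw [← hbo, h, orderOf_one])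
    rw [← hbo]
    exact (hord b (hmemZ b (A.pow_mem ha₀ _)) fun h => hb1 (hAone b (A.pow_mem ha₀ _) h)).symm
  have hAea : IsElementaryAbelian p A := by
    refine ⟨⟨⟨fun a c => Subtype.ext (hAab a a.2 c c.2)⟩⟩, fun a ha => ?_⟩
    by_cases h : a = 1
    · rw [h, one_pow]
    · rw [← ho, ← hord a (hmemZ a ha) fun e => h (hAone a ha e)]
      exact pow_orderOf_eq_one a
  have hAle : Nat.card A ≤ p := by
    by_contra hcon
    push Not at hcon
    apply fitting_ne_bot (G := G)
    rw [← hF, Signalizer.gen_index hAea hFp (fun x _ => Subgroup.mem_normalizer_iff.2 fun y =>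
      ⟨fun hy => (inferInstance : F.Normal).conj_mem y hy x, fun hy => by
        simpa [mul_assoc] using (inferInstance : F.Normal).conj_mem _ hy x⁻¹⟩), eq_bot_iff]
    refine iSup_le fun B f hf => ?_
    obtain ⟨b, hb, hb1⟩ : ∃ b ∈ (B : Subgroup G), b ≠ 1 := by
      by_contra hc
      push Not at hc
      have := B.2.2
      rw [(Subgroup.eq_bot_iff_forall _).2 hc, Subgroup.relIndex_bot_left] at this
      omega
    exact Subgroup.mem_bot.2 (hfree b (B.2.1 hb) hb1 f hf.1 (Subgroup.mem_centralizer_iff.1 hf.2 b hb))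
  have hZp : Nat.card Z = p := by
    refine le_antisymm ?_ ?_
    · rw [← hAmap]
      exact (Nat.card_le_card_of_surjective (fun a : A => (⟨_, ⟨a, a.2, rfl⟩⟩ : A.map (QuotientGroup.mk' F)))
        (by rintro ⟨_, a, ha, rfl⟩; exact ⟨⟨a, ha⟩, rfl⟩)).trans hAle
    · obtain ⟨m, hm⟩ := (hXp.to_le hZX).exists_card_eq
      have h1 : 1 < Nat.card Z := (Subgroup.one_lt_card_iff_ne_bot Z).2 fun h =>
        hz1 (by rw [h] at hzZ; exact Subgroup.mem_bot.1 hzZ)
      rcases Nat.eq_zero_or_pos m with rfl | hm0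
      · rw [pow_zero] at hm; omega
      · rw [hm]; exact Nat.le_self_pow hm0.ne' p
  -- abelian normal subgroups of X lie in Z
  have habZ : ∀ A' : Subgroup (G ⧸ F), A'.Normal → A' ≤ X → (∀ a ∈ A', ∀ c ∈ A', a * c = c * a) →
      A' ≤ Z := by
    intro A' hA'n hA'X hab q hq
    haveI := hA'n
    by_cases hq1 : q = 1
    · rw [hq1]; exact Z.one_mem
    obtain ⟨g, rfl⟩ := QuotientGroup.mk_surjective q
    obtain ⟨-, -, -, -, -, hvan'⟩ := quot_vanish hO A' (hXp.to_le hA'X) hab
    exact hinZ g (hsing g (hA'X hq) hq1) (hvan' g hq hq1)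
  -- X has class at most two
  have hX2 : ∀ x ∈ commutator X, x ∈ Subgroup.center X := by
    by_contra hcon
    push Not at hcon
    obtain ⟨x₀, hx₀, hx₀c⟩ := hcon
    haveI : Group.IsNilpotent X := hXp.isNilpotent
    set qm := QuotientGroup.mk' (Subgroup.center X) with hqm
    have hMne : (commutator X).map qm ≠ ⊥ := by
      intro h
      apply hx₀c
      have h1 : qm x₀ ∈ (commutator X).map qm := ⟨x₀, hx₀, rfl⟩
      rw [h, Subgroup.mem_bot, hqm, QuotientGroup.mk'_apply, QuotientGroup.eq_one_iff] at h1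
      exact h1
    have : ((commutator X).map qm).Normal :=
      (inferInstance : (commutator X).Normal).map qm (QuotientGroup.mk'_surjective _)
    obtain ⟨m, ⟨hm1, hm2⟩, hm3⟩ :=
      SetLike.exists_of_lt (bot_lt_iff_ne_bot.2 (CfsgLib.inf_center_ne_bot_of_nilpotent hMne))
    obtain ⟨c, hc, rfl⟩ := hm1
    set U := Subgroup.upperCentralSeries X 2 with hU
    have hUmem : ∀ x, x ∈ U ↔ ∀ y, ⁅x, y⁆ ∈ Subgroup.center X := by
      intro x
      rw [hU, show (2 : ℕ) = 1 + 1 from rfl, Subgroup.mem_upperCentralSeries_succ_iff, Subgroup.upperCentralSeries_one]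
    have hchar : (U ⊓ commutator X).Characteristic := by
      haveI : U.Characteristic := by rw [hU]; infer_instance
      rw [Subgroup.characteristic_iff_map_eq]
      intro φ
      rw [Subgroup.map_inf _ _ _ φ.injective, Subgroup.characteristic_iff_map_eq.1 inferInstance φ,
        Subgroup.characteristic_iff_map_eq.1 (inferInstance : (commutator X).Characteristic) φ]
    have habU : ∀ s ∈ U ⊓ commutator X, ∀ t ∈ U ⊓ commutator X, s * t = t * s := by
      intro s hs t ht
      let χ : X →* Subgroup.center X :=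
        { toFun := fun g => ⟨⁅s, g⁆, (hUmem s).1 hs.1 g⟩
          map_one' := Subtype.ext (by simp [commutatorElement_def])
          map_mul' := fun g g' => Subtype.ext (by
            show ⁅s, g * g'⁆ = ⁅s, g⁆ * ⁅s, g'⁆
            have h1 : ⁅s, g * g'⁆ = ⁅s, g⁆ * (g * ⁅s, g'⁆ * g⁻¹) := by
              simp only [commutatorElement_def]; group
            rw [h1, Subgroup.mem_center_iff.1 ((hUmem s).1 hs.1 g') g, mul_inv_cancel_right]) }
      have hker : commutator X ≤ χ.ker := by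
        rw [commutator_def, Subgroup.commutator_le]
        intro g _ g' _
        rw [MonoidHom.mem_ker, map_commutatorElement, commutatorElement_eq_one_iff_mul_comm]
        exact Subtype.ext (Subgroup.mem_center_iff.1 (χ g').2 _)
      exact commutatorElement_eq_one_iff_mul_comm.1 (congrArg Subtype.val (hker ht.2))
    have hcU : c ∈ U := (hUmem c).2 fun y => by
      have h1 := Subgroup.mem_center_iff.1 hm2 (qm y)
      have h2 : qm ⁅c, y⁆ = 1 := by
        rw [map_commutatorElement]; exact commutatorElement_eq_one_iff_mul_comm.2 h1.symm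
      rwa [hqm, QuotientGroup.mk'_apply, QuotientGroup.eq_one_iff] at h2
    have hle := habZ ((U ⊓ commutator X).map X.subtype) ConjAct.normal_of_characteristic_of_normal
      (Subgroup.map_subtype_le _) (by
        rintro _ ⟨a, ha, rfl⟩ _ ⟨d, hd, rfl⟩; exact congrArg Subtype.val (habU a ha d hd))
    obtain ⟨d, hd, hde⟩ := hle ⟨c, ⟨hcU, hc⟩, rfl⟩
    apply hm3
    rw [Subgroup.mem_bot, hqm, QuotientGroup.mk'_apply, QuotientGroup.eq_one_iff]
    rwa [← Subtype.ext (show (d : G ⧸ F) = c from hde)]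
  -- X is abelian
  have hXab : ∀ y ∈ X, ∀ w ∈ X, y * w = w * y := by
    by_contra hcon
    push Not at hcon
    obtain ⟨y, hy, w, hw, hne⟩ := hcon
    have hy1 : y ≠ 1 := fun h => hne (by rw [h]; simp)
    have hvy : Van y := by
      refine van_of_translates Z hZp fun a ha => ?_
      set c := ⁅w, y⁆ with hcdef
      have hcZ : c ∈ Z := ⟨⁅⟨w, hw⟩, ⟨y, hy⟩⁆,
        hX2 _ (Subgroup.commutator_mem_commutator (Subgroup.mem_top _) (Subgroup.mem_top _)),
        map_commutatorElement _ _ _⟩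
      have hc1 : c ≠ 1 := fun h => hne (commutatorElement_eq_one_iff_mul_comm.1 h).symm
      have hgen : Subgroup.zpowers c = Z := by
        refine Subgroup.eq_of_le_of_card_ge (Subgroup.zpowers_le.2 hcZ) ?_
        rw [hZp, Nat.card_zpowers]
        rcases (Nat.dvd_prime hp).1 (hZp ▸ Z.orderOf_dvd_natCard hcZ) with h | h
        · exact absurd (orderOf_eq_one_iff.1 h) hc1
        · rw [h]
      obtain ⟨i, rfl⟩ : a ∈ Subgroup.zpowers c := hgen.symm ▸ ha
      have hcen : ∀ x ∈ X, x * c = c * x := fun x hx => by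
        obtain ⟨d, hd, hde⟩ := hcZ
        rw [← hde]
        exact congrArg Subtype.val (Subgroup.mem_center_iff.1 hd ⟨x, hx⟩)
      have hpow : ∀ m : ℕ, IsConj y (c ^ m * y) := by
        intro m
        induction m with
        | zero => simpa using IsConj.refl y
        | succ m ihm =>
          refine ihm.trans (isConj_iff.2 ⟨w, ?_⟩)
          calc w * (c ^ m * y) * w⁻¹ = w * c ^ m * w⁻¹ * (⁅w, y⁆ * y) := by
                rw [commutatorElement_def]; group
            _ = c ^ (m + 1) * y := by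
                rw [((show Commute w c from hcen w hw).pow_right m).eq, mul_inv_cancel_right, ← hcdef, pow_succ,
                  mul_assoc]
      obtain ⟨m, hm⟩ : ∃ m : ℕ, c ^ i = c ^ m := by
        have hmem : c ^ i ∈ Submonoid.powers c :=
          (mem_powers_iff_mem_zpowers (x := c)).2 ⟨i, rfl⟩
        obtain ⟨m, hm⟩ := hmem
        exact ⟨m, hm.symm⟩
      show IsConj y (c ^ i * y)
      rw [hm]
      exact hpow m
    obtain ⟨g, rfl⟩ := QuotientGroup.mk_surjective y
    have hyZ := hinZ g (hsing g hy hy1) (van_of_quotient hvy)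
    obtain ⟨d, hd, hde⟩ := hyZ
    exact hne (by rw [← hde]; exact (congrArg Subtype.val (Subgroup.mem_center_iff.1 hd ⟨w, hw⟩)).symm)
  have hXZ : X ≤ Z := habZ X hXn le_rfl hXab
  have hXp' : Nat.card X = p := le_antisymm hXZ hZX ▸ hZp
  have hq0 : NoVan p ((G ⧸ F) ⧸ X) := by
    intro q hq vq
    obtain ⟨h, rfl⟩ := QuotientGroup.mk_surjective q
    obtain ⟨g, rfl⟩ := QuotientGroup.mk_surjective h
    have h1 := hinZ g (dvd_orderOf_of_mk (dvd_orderOf_of_mk hq)) (van_of_quotient (van_of_quotient vq))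
    rw [(QuotientGroup.eq_one_iff (g : G ⧸ F)).2 (hZX h1), orderOf_one] at hq
    exact hp.ne_one (Nat.dvd_one.1 hq)
  have hnot := none (p := p) _ ((G ⧸ F) ⧸ X) (Group.isSolvable_of_surjective (QuotientGroup.mk'_surjective X))
    rfl ZJ.pCore_quotient_pCore_eq_bot hq0
  rw [Subgroup.card_eq_card_quotient_mul_card_subgroup X, hXp'] at hkH
  exact (Nat.Coprime.dvd_mul_left ((hp.coprime_iff_not_dvd.2 hnot).pow_left k)).1 hkH

end Cfsg.Agent.OneVanishing
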