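/-
A solvable group whose vanishing elements of order divisible by p have a single order.
-/
import Cfsg.Agent.Lib.OneVanishing.Main

set_option autoImplicit false
set_option linter.unusedSectionVars false

namespace Cfsg.Agent.OneVanishing

open Cfsg CfsgLib
open scoped commutatorElement

universe u

variable {G : Type u} [Group G] [Finite G] {p : ℕ} [Fact p.Prime]

/-- One vanishing element of order divisible by `p` being a `p`-element forces all to be, and no
vanishing `p`-element has a nontrivial vanishing `p`-th power. -/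
def OneOrd (p : ℕ) (G : Type u) [Group G] [Finite G] : Prop :=
  (∀ x y : G, p ∣ orderOf x → p ∣ orderOf y → Van x → Van y → ∀ i, orderOf x = p ^ i → ∃ j, orderOf y = p ^ j) ∧
  ∀ (x : G) (i : ℕ), orderOf x = p ^ i → Van x → x ^ p ≠ 1 → ¬ Van (x ^ p)

/-- An abelian `p`-subgroup of a quotient by a coprime normal subgroup lifts. -/
theorem lift_group {F : Subgroup G} [F.Normal] (hFp : ¬ p ∣ Nat.card F) (A' : Subgroup (G ⧸ F))
    (hA'p : IsPGroup p A') (hab : ∀ a ∈ A', ∀ c ∈ A', a * c = c * a) :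
    ∃ A : Subgroup G, (∀ a ∈ A, ∀ c ∈ A, a * c = c * a) ∧ IsPGroup p A ∧
      (∀ a ∈ A, (a : G ⧸ F) = 1 → a = 1) ∧ A.map (QuotientGroup.mk' F) = A' := by
  classical
  set M := A'.comap (QuotientGroup.mk' F) with hM
  obtain ⟨P⟩ : Nonempty (Sylow p M) := inferInstance
  let f : M →* A' := ((QuotientGroup.mk' F).comp M.subtype).codRestrict A' fun m => m.2
  have hfs : Function.Surjective f := by
    rintro ⟨q, hq⟩
    obtain ⟨g, rfl⟩ := QuotientGroup.mk_surjective q
    exact ⟨⟨g, hq⟩, rfl⟩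
  have hPimg : (P : Subgroup M).map f = ⊤ :=
    ((P.mapSurjective hfs).3 (hA'p.to_subgroup ⊤) le_top).symm
  set A := (P : Subgroup M).map M.subtype with hA
  have hAp : IsPGroup p A := P.isPGroup'.map _
  have hone : ∀ a ∈ A, (a : G ⧸ F) = 1 → a = 1 := by
    intro a ha h1
    have h2 : a ∈ F := (QuotientGroup.eq_one_iff a).1 h1
    obtain ⟨k, hk⟩ := hAp ⟨a, ha⟩
    have hk' : a ^ (p ^ k) = 1 := congrArg Subtype.val hk
    exact orderOf_eq_one_iff.1 (Nat.eq_one_of_dvd_coprimes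
      (((Fact.out : p.Prime).coprime_iff_not_dvd.2 hFp).pow_left k)
      (orderOf_dvd_of_pow_eq_one hk') (F.orderOf_dvd_natCard h2))
  have hAab : ∀ a ∈ A, ∀ c ∈ A, a * c = c * a := by
    intro a ha c hc
    have h1 := hone _ (A.mul_mem (A.mul_mem ha hc) (A.inv_mem (A.mul_mem hc ha))) (by
      obtain ⟨a', -, rfl⟩ := ha
      obtain ⟨c', -, rfl⟩ := hc
      have := hab _ a'.2 _ c'.2
      simp only [QuotientGroup.mk'_apply] at this
      simp only [Subgroup.coe_subtype, QuotientGroup.mk_mul, QuotientGroup.mk_inv, this, mul_inv_cancel])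
    exact mul_inv_eq_one.1 h1
  refine ⟨A, hAab, hAp, hone, le_antisymm ?_ fun q hq => ?_⟩
  · rintro _ ⟨_, ⟨m, -, rfl⟩, rfl⟩; exact m.2
  · obtain ⟨m, hm, he⟩ : (⟨q, hq⟩ : A') ∈ (P : Subgroup M).map f := hPimg ▸ Subgroup.mem_top _
    exact ⟨m, ⟨m, hm, rfl⟩, congrArg Subtype.val he⟩

theorem orderOf_mk_of_one {F : Subgroup G} [F.Normal] {A : Subgroup G}
    (hone : ∀ a ∈ A, (a : G ⧸ F) = 1 → a = 1) {a : G} (ha : a ∈ A) :
    orderOf (a : G ⧸ F) = orderOf a := by
  refine Nat.dvd_antisymm (orderOf_map_dvd (QuotientGroup.mk' F) a) (orderOf_dvd_of_pow_eq_one ?_)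
  refine hone _ (A.pow_mem ha _) ?_
  rw [QuotientGroup.mk_pow, pow_orderOf_eq_one]

/-- A `p`-element of a quotient by a coprime normal subgroup lifts to one of the same order. -/
theorem lift_elem {F : Subgroup G} [F.Normal] (hFp : ¬ p ∣ Nat.card F) {q : G ⧸ F} {i : ℕ}
    (hq : orderOf q = p ^ i) : ∃ a : G, (a : G ⧸ F) = q ∧ orderOf a = p ^ i := by
  obtain ⟨A, -, -, hone, hmap⟩ := lift_group hFp (Subgroup.zpowers q)
    (IsPGroup.of_card (n := i) (by rw [Nat.card_zpowers, hq])) (by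
      rintro _ ⟨m, rfl⟩ _ ⟨n, rfl⟩; exact ((Commute.refl q).zpow_zpow m n).eq)
  obtain ⟨a, ha, hae⟩ : q ∈ A.map (QuotientGroup.mk' F) := hmap.symm ▸ Subgroup.mem_zpowers q
  have hae' : (a : G ⧸ F) = q := hae
  exact ⟨a, hae', by rw [← orderOf_mk_of_one hone ha, hae', hq]⟩

theorem dvd_of_pow_order {M : Type*} [Monoid M] {x : M} {n : ℕ} (hx : x ^ (p ^ n) = 1) (h1 : x ≠ 1) :
    p ∣ orderOf x := by
  obtain ⟨j, -, hj⟩ := (Nat.dvd_prime_pow (Fact.out : p.Prime)).1 (orderOf_dvd_of_pow_eq_one hx)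
  rcases Nat.eq_zero_or_pos j with rfl | hj0
  · exact absurd (orderOf_eq_one_iff.1 (by simpa using hj)) h1
  · rw [hj]; exact dvd_pow_self p hj0.ne'

/-- A `p`-element of any quotient is the image of a `p`-element. -/
theorem lift_pel (N : Subgroup G) [N.Normal] {q : G ⧸ N} {i : ℕ} (hq : orderOf q = p ^ i) :
    ∃ (a : G) (j : ℕ), (a : G ⧸ N) = q ∧ orderOf a = p ^ j := by
  obtain ⟨g, rfl⟩ := QuotientGroup.mk_surjective q
  obtain ⟨e, m, hm, he⟩ := Nat.exists_eq_pow_mul_and_not_dvd (orderOf_pos g).ne' p (Fact.out : p.Prime).ne_one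
  obtain ⟨r, hr⟩ := exists_pow_eq_self_of_coprime (x := (g : G ⧸ N)) (n := m)
    (by rw [hq]; exact (((Fact.out : p.Prime).coprime_iff_not_dvd.2 hm).pow_left i).symm)
  have h1 : ((g ^ m) ^ r) ^ p ^ e = 1 := by
    rw [← pow_mul, ← pow_mul, show m * (r * p ^ e) = orderOf g * r by rw [he]; ring, pow_mul, pow_orderOf_eq_one,
      one_pow]
  obtain ⟨j, -, hj⟩ := (Nat.dvd_prime_pow (Fact.out : p.Prime)).1 (orderOf_dvd_of_pow_eq_one h1)
  exact ⟨(g ^ m) ^ r, j, by rw [QuotientGroup.mk_pow, QuotientGroup.mk_pow, hr], hj⟩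

theorem OneOrd.quotient (h : OneOrd p G) (N : Subgroup G) [N.Normal] : OneOrd p (G ⧸ N) := by
  refine ⟨fun x y hx hy vx vy i hxi => ?_, fun x i hxi vx hxp vxp => ?_⟩
  · obtain ⟨a, j, rfl, ha⟩ := lift_pel N hxi
    obtain ⟨c, rfl⟩ := QuotientGroup.mk_surjective y
    obtain ⟨l, hl⟩ := h.1 a c (dvd_orderOf_of_mk hx) (dvd_orderOf_of_mk hy) (van_of_quotient vx)
      (van_of_quotient vy) j ha
    obtain ⟨l', -, hl'⟩ := (Nat.dvd_prime_pow (Fact.out : p.Prime)).1
      (hl ▸ orderOf_map_dvd (QuotientGroup.mk' N) c)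
    exact ⟨l', hl'⟩
  · obtain ⟨a, j, rfl, ha⟩ := lift_pel N hxi
    rw [← QuotientGroup.mk_pow] at hxp vxp
    exact h.2 a j ha (van_of_quotient vx) (fun e => hxp (by rw [e, QuotientGroup.mk_one])) (van_of_quotient vxp)

theorem one_ord (n : ℕ) : ∀ (G : Type u) [Group G] [Finite G], Group.IsSolvable G → Nat.card G = n →
    pCore p G = ⊥ → OneOrd p G →
    (∀ k, p ^ k ∣ Nat.card G → p ^ k ∣ p) ∧ (p ∣ Nat.card G → ∃ h : G, orderOf h = p ∧ Van h) := by
  induction n using Nat.strong_induction_on with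
  | _ n ih =>
  intro G _ _ hs hn hO hv
  classical
  have hp : p.Prime := Fact.out
  rcases subsingleton_or_nontrivial G with hsub | hnt
  · refine ⟨fun k hk => ?_, fun hd => ?_⟩ <;> rw [Nat.card_of_subsingleton (1 : G)] at *
    · exact hk.trans (one_dvd _)
    · exact absurd hd hp.not_dvd_one
  set F := fittingSubgroup G with hF
  have hFp : ¬ p ∣ Nat.card F := fitting_coprime hO
  have hkH : ∀ k, p ^ k ∣ Nat.card G → p ^ k ∣ Nat.card (G ⧸ F) := by
    intro k hk
    rw [Subgroup.card_eq_card_quotient_mul_card_subgroup F] at hk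
    exact (Nat.Coprime.dvd_mul_right ((hp.coprime_iff_not_dvd.2 hFp).pow_left k)).1 hk
  have hsH : Group.IsSolvable (G ⧸ F) := Group.isSolvable_of_surjective (QuotientGroup.mk'_surjective F)
  by_cases hX : pCore p (G ⧸ F) = ⊥
  · obtain ⟨h1, h2⟩ := ih _ (hn ▸ card_quotient_lt fitting_ne_bot) _ hsH rfl hX (hv.quotient F)
    refine ⟨fun k hk => h1 k (hkH k hk), fun hd => ?_⟩
    obtain ⟨q, hqo, hqv⟩ := h2 (by simpa using hkH 1 (by simpa using hd))
    obtain ⟨a, rfl, ha⟩ := lift_elem (i := 1) hFp (by rw [pow_one]; exact hqo)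
    exact ⟨a, by rw [ha, pow_one], van_of_quotient hqv⟩
  set X := pCore p (G ⧸ F) with hXdef
  have hXp : IsPGroup p X := isPGroup_pCore p
  have hXn : X.Normal := inferInstance
  haveI : Nontrivial X := (Subgroup.nontrivial_iff_ne_bot X).2 hX
  set Z := (Subgroup.center X).map X.subtype with hZdef
  haveI hZn : Z.Normal := ConjAct.normal_of_characteristic_of_normal
  have hZX : Z ≤ X := Subgroup.map_subtype_le _
  obtain ⟨z, hzZ, hz1⟩ : ∃ z ∈ Z, z ≠ 1 := by
    obtain ⟨z, hz⟩ : ∃ z : Subgroup.center X, z ≠ 1 := by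
      have := hXp.center_nontrivial
      exact exists_ne 1
    exact ⟨((z : X) : G ⧸ F), ⟨(z : X), z.2, rfl⟩, fun h => hz (Subtype.ext (Subtype.ext h))⟩
  have hcen : ∀ a ∈ Z, ∀ x ∈ X, x * a = a * x := by
    rintro _ ⟨a, ha, rfl⟩ x hx
    exact congrArg Subtype.val (Subgroup.mem_center_iff.1 ha ⟨x, hx⟩)
  have hZab : ∀ a ∈ Z, ∀ c ∈ Z, a * c = c * a := fun a ha c hc => hcen c hc a (hZX ha)
  have hsing : ∀ g : G, (g : G ⧸ F) ∈ X → (g : G ⧸ F) ≠ 1 → p ∣ orderOf g := by
    intro g hgX hg1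
    obtain ⟨m, hm⟩ := hXp ⟨_, hgX⟩
    exact dvd_orderOf_of_mk (N := F) (dvd_of_pow_order (n := m) (congrArg Subtype.val hm) hg1)
  -- all vanishing elements of order divisible by `p` have order `p`
  obtain ⟨A, hAab, hAp, hAone, hAmap, hvan⟩ := quot_vanish hO Z (hXp.to_le hZX) hZab
  obtain ⟨a₀, ha₀, ha₀z⟩ : z ∈ A.map (QuotientGroup.mk' F) := hAmap ▸ hzZ
  have hmemZ : ∀ a ∈ A, (a : G ⧸ F) ∈ Z := fun a ha => hAmap ▸ ⟨a, ha, rfl⟩
  have ha₀1 : a₀ ≠ 1 := fun h => hz1 (by rw [← ha₀z, h, map_one])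
  obtain ⟨b, hbA, hbo⟩ : ∃ b ∈ A, orderOf b = p := by
    have hd : p ∣ orderOf a₀ := hsing a₀ (hZX (hmemZ a₀ ha₀)) fun h => ha₀1 (hAone a₀ ha₀ h)
    exact ⟨a₀ ^ (orderOf a₀ / p), A.pow_mem ha₀ _, orderOf_pow_orderOf_div (orderOf_pos a₀).ne' hd⟩
  have hb1 : (b : G ⧸ F) ≠ 1 := fun h => hp.ne_one (by rw [← hbo, hAone b hbA h, orderOf_one])
  have hord : ∀ g : G, p ∣ orderOf g → Van g → ∃ j, orderOf g = p ^ j := fun g h1 h2 =>
    hv.1 b g (hsing b (hZX (hmemZ b hbA)) hb1) h1 (hvan b (hmemZ b hbA) hb1) h2 1 (by rw [hbo, pow_one])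
  -- the abelian subgroups all of whose lines contain vanishing cosets have order at most `p`
  have hsmall : ∀ A' : Subgroup (G ⧸ F), IsPGroup p A' → (∀ a ∈ A', ∀ c ∈ A', a * c = c * a) →
      (∀ a ∈ A', a ^ p = 1) →
      (∀ a ∈ A', a ≠ 1 → ∃ j : ℕ, a ^ j ≠ 1 ∧ ∀ g : G, (g : G ⧸ F) = a ^ j → Van g) →
      Nat.card A' ≤ p := by
    intro A' hA'p hab hexp hvA
    obtain ⟨B, hBab, hBp, hBone, hBmap⟩ := lift_group hFp A' hA'p hab
    have hBea : IsElementaryAbelian p B := by
      refine ⟨⟨⟨fun a c => Subtype.ext (hBab a a.2 c c.2)⟩⟩, fun a ha => hBone _ (B.pow_mem ha p) ?_⟩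
      rw [QuotientGroup.mk_pow]
      exact hexp _ (hBmap ▸ ⟨a, ha, rfl⟩)
    refine le_trans (le_of_eq (by rw [← hBmap])) ((Nat.card_le_card_of_surjective
      (fun a : B => (⟨_, ⟨a, a.2, rfl⟩⟩ : B.map (QuotientGroup.mk' F)))
      (by rintro ⟨_, a, ha, rfl⟩; exact ⟨⟨a, ha⟩, rfl⟩)).trans ?_)
    by_contra hcon
    push Not at hcon
    apply fitting_ne_bot (G := G)
    rw [← hF, Signalizer.gen_index hBea hFp (fun x _ => Subgroup.mem_normalizer_iff.2 fun y =>
      ⟨fun hy => (inferInstance : F.Normal).conj_mem y hy x, fun hy => by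
        simpa [mul_assoc] using (inferInstance : F.Normal).conj_mem _ hy x⁻¹⟩), eq_bot_iff]
    refine iSup_le fun C f hf => ?_
    obtain ⟨c, hc, hc1⟩ : ∃ c ∈ (C : Subgroup G), c ≠ 1 := by
      by_contra hc
      push Not at hc
      have := C.2.2
      rw [(Subgroup.eq_bot_iff_forall _).2 hc, Subgroup.relIndex_bot_left] at this
      omega
    have hcB := C.2.1 hc
    obtain ⟨j, hj1, hjv⟩ := hvA (c : G ⧸ F) (hBmap ▸ ⟨c, hcB, rfl⟩) fun h => hc1 (hBone c hcB h)
    have hmk : ((f * c ^ j : G) : G ⧸ F) = (c : G ⧸ F) ^ j := by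
      rw [QuotientGroup.mk_mul, (QuotientGroup.eq_one_iff f).2 hf.1, one_mul, QuotientGroup.mk_pow]
    have hcj1 : c ^ j ≠ 1 := fun h => hj1 (by rw [← QuotientGroup.mk_pow, h, QuotientGroup.mk_one])
    have hcjo : orderOf (c ^ j) = p :=
      orderOf_eq_prime (by rw [← pow_mul, mul_comm, pow_mul, hBea.2 c hcB, one_pow]) hcj1
    have hfc : Commute f (c ^ j) :=
      (show Commute f c from (Subgroup.mem_centralizer_iff.1 hf.2 c hc).symm).pow_right j
    have hco : (orderOf f).Coprime (orderOf (c ^ j)) := by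
      rw [hcjo]
      exact (hp.coprime_iff_not_dvd.2 fun h => hFp (h.trans (F.orderOf_dvd_natCard hf.1))).symm
    obtain ⟨l, h1⟩ := hord (f * c ^ j) (by
      rw [hfc.orderOf_mul_eq_mul_orderOf_of_coprime hco, hcjo]; exact dvd_mul_left p _) (hjv _ hmk)
    rw [hfc.orderOf_mul_eq_mul_orderOf_of_coprime hco, hcjo] at h1
    have hfp : (orderOf f).Coprime (p ^ l) :=
      ((hp.coprime_iff_not_dvd.2 fun h => hFp (h.trans (F.orderOf_dvd_natCard hf.1))).pow_left l).symm
    exact Subgroup.mem_bot.2 (orderOf_eq_one_iff.1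
      (Nat.eq_one_of_dvd_coprimes hfp dvd_rfl (Dvd.intro p h1)))
  have hall : ∀ A' : Subgroup (G ⧸ F), IsPGroup p A' → (∀ a ∈ A', ∀ c ∈ A', a * c = c * a) →
      (∀ g : G, (g : G ⧸ F) ∈ A' → (g : G ⧸ F) ≠ 1 → Van g) → Nat.card A' ≤ p := by
    intro A' hA'p hab hvA
    refine hsmall A' hA'p hab (fun a ha => ?_) fun a ha ha1 => ⟨1, by rwa [pow_one], fun g hg => ?_⟩
    · obtain ⟨B, -, hBp, hBone, hBmap⟩ := lift_group hFp A' hA'p hab
      obtain ⟨c, hc, rfl⟩ : a ∈ B.map (QuotientGroup.mk' F) := hBmap.symm ▸ ha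
      by_contra hne
      have hne' : ((c ^ p : G) : G ⧸ F) ≠ 1 := hne
      obtain ⟨m, hm⟩ := hBp ⟨c, hc⟩
      obtain ⟨i, -, hi⟩ := (Nat.dvd_prime_pow hp).1
        (orderOf_dvd_of_pow_eq_one (x := c) (n := p ^ m) (congrArg Subtype.val hm))
      refine hv.2 c i hi (hvA c ha fun h => hne' (by rw [QuotientGroup.mk_pow, h, one_pow]))
        (fun h => hne' (by rw [h, QuotientGroup.mk_one])) (hvA (c ^ p) ?_ hne')
      rw [QuotientGroup.mk_pow]
      exact A'.pow_mem ha p
    · rw [pow_one] at hg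
      exact hvA g (hg ▸ ha) (hg ▸ ha1)
  have hone_lt : 1 < Nat.card Z := (Subgroup.one_lt_card_iff_ne_bot Z).2 fun h =>
    hz1 (by rw [h] at hzZ; exact Subgroup.mem_bot.1 hzZ)
  have hZp : Nat.card Z = p := by
    obtain ⟨m, hm⟩ := (hXp.to_le hZX).exists_card_eq
    refine le_antisymm (hall Z (hXp.to_le hZX) hZab hvan) ?_
    rcases Nat.eq_zero_or_pos m with rfl | hm0
    · rw [pow_zero] at hm; omega
    · rw [hm]; exact Nat.le_self_pow hm0.ne' p
  -- abelian normal subgroups of X lie in Z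
  have habZ : ∀ A' : Subgroup (G ⧸ F), A'.Normal → A' ≤ X → (∀ a ∈ A', ∀ c ∈ A', a * c = c * a) →
      A' ≤ Z := by
    intro A' hA'n hA'X hab
    haveI := hA'n
    set U := A' ⊔ Z with hU
    have hUab : ∀ a ∈ U, ∀ c ∈ U, a * c = c * a := by
      have h1 : U ≤ Subgroup.centralizer (U : Set (G ⧸ F)) := by
        refine sup_le ?_ ?_
        · rw [Subgroup.le_centralizer_iff]
          refine sup_le (fun x hx => Subgroup.mem_centralizer_iff.2 fun y hy => hab y hy x hx)
            fun x hx => Subgroup.mem_centralizer_iff.2 fun y hy => hcen x hx y (hA'X hy)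
        · rw [Subgroup.le_centralizer_iff]
          refine sup_le (fun x hx => Subgroup.mem_centralizer_iff.2 fun y hy => (hcen y hy x (hA'X hx)).symm)
            fun x hx => Subgroup.mem_centralizer_iff.2 fun y hy => hZab y hy x hx
      exact fun a ha c hc => (Subgroup.mem_centralizer_iff.1 (h1 ha) c hc).symm
    have hUX : U ≤ X := sup_le hA'X hZX
    obtain ⟨-, -, -, -, -, hvU⟩ := quot_vanish hO U (hXp.to_le hUX) hUab
    have hcard := hall U (hXp.to_le hUX) hUab hvU
    have : U = Z := (Subgroup.eq_of_le_of_card_ge le_sup_right (hZp ▸ hcard)).symm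
    exact this ▸ le_sup_left
  -- X has class at most two
  have hX2 : ∀ x ∈ commutator X, x ∈ Subgroup.center X := by
    by_contra hcon
    push Not at hcon
    obtain ⟨x₀, hx₀, hx₀c⟩ := hcon
    haveI : Group.IsNilpotent X := hXp.isNilpotent
    set qm := QuotientGroup.mk' (Subgroup.center X) with hqm
    have hMne : (commutator X).map qm ≠ ⊥ := by
      intro h
      apply hx₀c
      have h1 : qm x₀ ∈ (commutator X).map qm := ⟨x₀, hx₀, rfl⟩
      rw [h, Subgroup.mem_bot, hqm, QuotientGroup.mk'_apply, QuotientGroup.eq_one_iff] at h1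
      exact h1
    have : ((commutator X).map qm).Normal :=
      (inferInstance : (commutator X).Normal).map qm (QuotientGroup.mk'_surjective _)
    obtain ⟨m, ⟨hm1, hm2⟩, hm3⟩ :=
      SetLike.exists_of_lt (bot_lt_iff_ne_bot.2 (CfsgLib.inf_center_ne_bot_of_nilpotent hMne))
    obtain ⟨c, hc, rfl⟩ := hm1
    set U := Subgroup.upperCentralSeries X 2 with hU
    have hUmem : ∀ x, x ∈ U ↔ ∀ y, ⁅x, y⁆ ∈ Subgroup.center X := by
      intro x
      rw [hU, show (2 : ℕ) = 1 + 1 from rfl, Subgroup.mem_upperCentralSeries_succ_iff, Subgroup.upperCentralSeries_one]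
    have hchar : (U ⊓ commutator X).Characteristic := by
      haveI : U.Characteristic := by rw [hU]; infer_instance
      rw [Subgroup.characteristic_iff_map_eq]
      intro φ
      rw [Subgroup.map_inf _ _ _ φ.injective, Subgroup.characteristic_iff_map_eq.1 inferInstance φ,
        Subgroup.characteristic_iff_map_eq.1 (inferInstance : (commutator X).Characteristic) φ]
    have habU : ∀ s ∈ U ⊓ commutator X, ∀ t ∈ U ⊓ commutator X, s * t = t * s := by
      intro s hs t ht
      let χ : X →* Subgroup.center X :=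
        { toFun := fun g => ⟨⁅s, g⁆, (hUmem s).1 hs.1 g⟩
          map_one' := Subtype.ext (by simp [commutatorElement_def])
          map_mul' := fun g g' => Subtype.ext (by
            show ⁅s, g * g'⁆ = ⁅s, g⁆ * ⁅s, g'⁆
            have h1 : ⁅s, g * g'⁆ = ⁅s, g⁆ * (g * ⁅s, g'⁆ * g⁻¹) := by
              simp only [commutatorElement_def]; group
            rw [h1, Subgroup.mem_center_iff.1 ((hUmem s).1 hs.1 g') g, mul_inv_cancel_right]) }
      have hker : commutator X ≤ χ.ker := by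
        rw [commutator_def, Subgroup.commutator_le]
        intro g _ g' _
        rw [MonoidHom.mem_ker, map_commutatorElement, commutatorElement_eq_one_iff_mul_comm]
        exact Subtype.ext (Subgroup.mem_center_iff.1 (χ g').2 _)
      exact commutatorElement_eq_one_iff_mul_comm.1 (congrArg Subtype.val (hker ht.2))
    have hcU : c ∈ U := (hUmem c).2 fun y => by
      have h1 := Subgroup.mem_center_iff.1 hm2 (qm y)
      have h2 : qm ⁅c, y⁆ = 1 := by
        rw [map_commutatorElement]; exact commutatorElement_eq_one_iff_mul_comm.2 h1.symm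
      rwa [hqm, QuotientGroup.mk'_apply, QuotientGroup.eq_one_iff] at h2
    have hle := habZ ((U ⊓ commutator X).map X.subtype) ConjAct.normal_of_characteristic_of_normal
      (Subgroup.map_subtype_le _) (by
        rintro _ ⟨a, ha, rfl⟩ _ ⟨d, hd, rfl⟩; exact congrArg Subtype.val (habU a ha d hd))
    obtain ⟨d, hd, hde⟩ := hle ⟨c, ⟨hcU, hc⟩, rfl⟩
    apply hm3
    rw [Subgroup.mem_bot, hqm, QuotientGroup.mk'_apply, QuotientGroup.eq_one_iff]
    rwa [← Subtype.ext (show (d : G ⧸ F) = c from hde)]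
  -- the elements of X outside Z are vanishing
  have hvanX : ∀ y ∈ X, y ∉ Z → Van y := by
    intro y hy hyZ
    obtain ⟨w, hw, hne⟩ : ∃ w ∈ X, w * y ≠ y * w := by
      by_contra hcon
      push Not at hcon
      exact hyZ ⟨⟨y, hy⟩, Subgroup.mem_center_iff.2 fun w => Subtype.ext (hcon w w.2), rfl⟩
    refine van_of_translates Z hZp fun a ha => ?_
    set c := ⁅w, y⁆ with hcdef
    have hcZ : c ∈ Z := ⟨⁅⟨w, hw⟩, ⟨y, hy⟩⁆,
      hX2 _ (Subgroup.commutator_mem_commutator (Subgroup.mem_top _) (Subgroup.mem_top _)),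
      map_commutatorElement _ _ _⟩
    have hc1 : c ≠ 1 := fun h => hne (commutatorElement_eq_one_iff_mul_comm.1 h)
    have hgen : Subgroup.zpowers c = Z := by
      refine Subgroup.eq_of_le_of_card_ge (Subgroup.zpowers_le.2 hcZ) ?_
      rw [hZp, Nat.card_zpowers]
      rcases (Nat.dvd_prime hp).1 (hZp ▸ Z.orderOf_dvd_natCard hcZ) with h | h
      · exact absurd (orderOf_eq_one_iff.1 h) hc1
      · rw [h]
    obtain ⟨m, rfl⟩ : a ∈ Submonoid.powers c := (mem_powers_iff_mem_zpowers (x := c)).2 (hgen.symm ▸ ha)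
    show IsConj y (c ^ m * y)
    clear ha
    induction m with
    | zero => simpa using IsConj.refl y
    | succ m ihm =>
      refine ihm.trans (isConj_iff.2 ⟨w, ?_⟩)
      calc w * (c ^ m * y) * w⁻¹ = w * c ^ m * w⁻¹ * (⁅w, y⁆ * y) := by rw [commutatorElement_def]; group
        _ = c ^ (m + 1) * y := by
          rw [((show Commute w c from hcen c hcZ w hw).pow_right m).eq, mul_inv_cancel_right, ← hcdef, pow_succ,
            mul_assoc]
  -- X has order p
  have hXp' : Nat.card X = p := by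
    suffices h : X ≤ Z from le_antisymm h hZX ▸ hZp
    intro y hy
    by_contra hyZ
    set U := Z ⊔ Subgroup.zpowers y with hU
    have hUX : U ≤ X := sup_le hZX (Subgroup.zpowers_le.2 hy)
    have hUab : ∀ a ∈ U, ∀ c ∈ U, a * c = c * a := by
      have h1 : U ≤ Subgroup.centralizer (U : Set (G ⧸ F)) := by
        refine sup_le ?_ ?_
        · exact fun x hx => Subgroup.mem_centralizer_iff.2 fun t ht => hcen x hx t (hUX ht)
        · rw [Subgroup.le_centralizer_iff]
          exact sup_le (fun x hx => Subgroup.mem_centralizer_iff.2 fun t ht => hcen x hx t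
              (hUX (Subgroup.mem_sup_right ht)))
            fun x hx => Subgroup.mem_centralizer_iff.2 fun t ht => by
              obtain ⟨i, rfl⟩ := hx
              obtain ⟨j, rfl⟩ := ht
              exact ((Commute.refl y).zpow_zpow j i).eq
      exact fun a ha c hc => (Subgroup.mem_centralizer_iff.1 (h1 ha) c hc).symm
    have hcard := hall U (hXp.to_le hUX) hUab fun g hg hg1 => by
      by_cases hgZ : (g : G ⧸ F) ∈ Z
      · exact hvan g hgZ hg1
      · exact van_of_quotient (hvanX _ (hUX hg) hgZ)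
    have : U = Z := (Subgroup.eq_of_le_of_card_ge le_sup_left (hZp ▸ hcard)).symm
    exact hyZ (this ▸ Subgroup.mem_sup_right (Subgroup.mem_zpowers y))
  have hXZ : X = Z := (Subgroup.eq_of_le_of_card_ge hZX (by rw [hXp', hZp])).symm
  -- p does not divide the order above X
  refine ⟨fun k hk => ?_, fun _ => ⟨b, hbo, hvan b (hmemZ b hbA) hb1⟩⟩
  have hnot : ¬ p ∣ Nat.card ((G ⧸ F) ⧸ X) := by
    intro hd
    have hlt : Nat.card ((G ⧸ F) ⧸ X) < n :=
      lt_of_le_of_lt (Nat.card_le_card_of_surjective _ (QuotientGroup.mk'_surjective X))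
        (hn ▸ card_quotient_lt fitting_ne_bot)
    obtain ⟨q, hqo, vq⟩ := (ih _ hlt ((G ⧸ F) ⧸ X) (Group.isSolvable_of_surjective (QuotientGroup.mk'_surjective X))
      rfl ZJ.pCore_quotient_pCore_eq_bot ((hv.quotient F).quotient X)).2 hd
    have hq : p ∣ orderOf q := dvd_of_eq hqo.symm
    obtain ⟨h, rfl⟩ := QuotientGroup.mk_surjective q
    obtain ⟨g, hg⟩ := QuotientGroup.mk_surjective h
    have vg : Van g := van_of_quotient (N := F) (hg.symm ▸ van_of_quotient vq)
    obtain ⟨l, hgl⟩ := hord g (dvd_orderOf_of_mk (N := F) (hg.symm ▸ dvd_orderOf_of_mk hq)) vg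
    have hh1 : h ^ p = 1 := by
      by_contra hne
      have hmk : ((g ^ p : G) : G ⧸ F) = h ^ p := by rw [QuotientGroup.mk_pow, hg]
      have hpX : h ^ p ∈ X := (QuotientGroup.eq_one_iff (h ^ p)).1 (by
        rw [QuotientGroup.mk_pow, ← hqo, pow_orderOf_eq_one])
      exact hv.2 g l hgl vg (fun e => hne (by rw [← hmk, e, QuotientGroup.mk_one]))
        (hvan _ (by rw [hmk]; exact hXZ ▸ hpX) (by rw [hmk]; exact hne))
    have hhX : h ∉ X := fun h' => by
      rw [(QuotientGroup.eq_one_iff h).2 h', orderOf_one] at hq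
      exact hp.ne_one (Nat.dvd_one.1 hq)
    set U := X ⊔ Subgroup.zpowers h with hU
    have hho : orderOf h = p := orderOf_eq_prime hh1 fun e => hhX (e ▸ X.one_mem)
    have hUcard : Nat.card U = p ^ 2 := by
      have h2 : Nat.card U ∣ p ^ 2 := by
        have := card_sup_dvd_mul (Subgroup.zpowers h) X
        rwa [sup_comm, ← hU, Nat.card_zpowers, hho, hXp', ← pow_two] at this
      obtain ⟨j, hj, hjc⟩ := (Nat.dvd_prime_pow hp).1 h2
      by_contra hne
      have hj1 : j ≤ 1 := by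
        by_contra hh
        exact hne (by rw [hjc, show j = 2 by omega])
      have : U = X := (Subgroup.eq_of_le_of_card_ge le_sup_left (by
        rw [hjc, hXp']; calc p ^ j ≤ p ^ 1 := Nat.pow_le_pow_right hp.pos hj1
          _ = p := pow_one p)).symm
      exact hhX (this ▸ Subgroup.mem_sup_right (Subgroup.mem_zpowers h))
    have hUab : ∀ a ∈ U, ∀ c ∈ U, a * c = c * a := fun a ha c hc =>
      congrArg Subtype.val (IsPGroup.commutative_of_card_eq_prime_sq hUcard ⟨a, ha⟩ ⟨c, hc⟩)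
    have hUel : ∀ a ∈ U, ∃ x ∈ X, ∃ i : ℕ, a = x * h ^ i := by
      intro a ha
      have ha' : a ∈ ((X ⊔ Subgroup.zpowers h : Subgroup (G ⧸ F)) : Set (G ⧸ F)) := ha
      rw [Subgroup.normal_mul] at ha'
      obtain ⟨x, hx, c, hc, rfl⟩ := ha'
      obtain ⟨i, rfl⟩ := (mem_powers_iff_mem_zpowers (x := h)).2 hc
      exact ⟨x, hx, i, rfl⟩
    have hexp : ∀ a ∈ U, a ^ p = 1 := by
      intro a ha
      obtain ⟨x, hx, i, rfl⟩ := hUel a ha
      have hxp : x ^ p = 1 := by
        have := hXp' ▸ pow_card_eq_one' (x := (⟨x, hx⟩ : X))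
        simpa using congrArg Subtype.val this
      rw [(show Commute x (h ^ i) from hUab x (Subgroup.mem_sup_left hx) _
        (Subgroup.pow_mem _ (Subgroup.mem_sup_right (Subgroup.mem_zpowers h)) i)).mul_pow, hxp, ← pow_mul,
        mul_comm i p, pow_mul, hh1, one_pow, one_mul]
    have hcard := hsmall U (IsPGroup.of_card hUcard) hUab hexp fun a ha ha1 => by
      by_cases haX : a ∈ X
      · exact ⟨1, by rwa [pow_one], fun g' hg' => hvan g' (by rw [hg', pow_one]; exact hXZ ▸ haX)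
          (by rw [hg', pow_one]; exact ha1)⟩
      obtain ⟨x, hx, i, rfl⟩ := hUel a ha
      have hi : ¬ p ∣ i := fun hd => haX (by
        obtain ⟨t, rfl⟩ := hd
        rw [pow_mul, hh1, one_pow, mul_one]; exact hx)
      obtain ⟨t, ht⟩ := exists_pow_eq_self_of_coprime (x := h) (n := i)
        (by rw [hho]; exact (hp.coprime_iff_not_dvd.2 hi).symm)
      have hpow : (x * h ^ i) ^ t = x ^ t * h := by
        rw [(show Commute x (h ^ i) from hUab x (Subgroup.mem_sup_left hx) _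
          (Subgroup.pow_mem _ (Subgroup.mem_sup_right (Subgroup.mem_zpowers h)) i)).mul_pow, ht]
      have hmk : (((x * h ^ i) ^ t : G ⧸ F) : (G ⧸ F) ⧸ X) = (h : (G ⧸ F) ⧸ X) := by
        rw [hpow, QuotientGroup.mk_mul, (QuotientGroup.eq_one_iff _).2 (X.pow_mem hx t), one_mul]
      refine ⟨t, fun e => ?_, fun g' hg' => van_of_quotient (N := F) (hg' ▸ van_of_quotient (N := X) (hmk.symm ▸ vq))⟩
      rw [e, QuotientGroup.mk_one] at hmk
      rw [← hmk, orderOf_one] at hq
      exact hp.ne_one (Nat.dvd_one.1 hq)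
    rw [hUcard] at hcard
    have := hp.two_le
    nlinarith
  have hkH' := hkH k hk
  rw [Subgroup.card_eq_card_quotient_mul_card_subgroup X, hXp'] at hkH'
  exact (Nat.Coprime.dvd_mul_left ((hp.coprime_iff_not_dvd.2 hnot).pow_left k)).1 hkH'

end Cfsg.Agent.OneVanishing
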